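import Mathlib
import Cfsg.Agent.H21.SN.Tools
import Cfsg.Agent.H952.RcOrth
import Cfsg.Agent.GenOrth.Emb
import Cfsg.Agent.TwoFusion.SLTwoFacts
import Cfsg.Agent.CpQuot.Congr

/-!
# `SL₂(F)` acting by left multiplication on a copy of `M₂(F)` in a quadratic space (helper187, S3831, task 4454)

`emb_eq` : `Q` good, `j : M₂(F) → V` with `Q (j X) = c det X`, `g` a semisimilarity of `V` (companion `φ`) with
`g (j X) = j (A X^φ B)`, inducing `x` on `E Q / Z`, `RN x`: then `φ = 1` and `A` is a scalar matrix.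
-/

set_option autoImplicit false
set_option linter.unusedSectionVars false

namespace Cfsg.Agent.H187.SN

open Cfsg Subgroup QuadraticMap Cfsg.Agent.H21.SN Cfsg.Agent.H952.Rc
open Cfsg.Agent.LieClassical.OrthCore Cfsg.Agent.LieClassical.OrthTrans
open scoped commutatorElement

/-! ### the determinant form -/

section Det

variable {F : Type*} [Field F]

/-- the determinant as a quadratic form -/
def detQ (F : Type*) [Field F] : QuadraticForm F (Matrix (Fin 2) (Fin 2) F) where
  toFun X := X.det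
  toFun_smul a X := by
    rw [Matrix.det_fin_two, Matrix.det_fin_two]
    simp only [Matrix.smul_apply, smul_eq_mul]
    ring
  exists_companion' := by
    refine ⟨LinearMap.mk₂ F (fun X Y => X 0 0 * Y 1 1 + X 1 1 * Y 0 0 - X 0 1 * Y 1 0 - X 1 0 * Y 0 1)
      ?_ ?_ ?_ ?_, ?_⟩
    · intro X X' Y
      simp only [Matrix.add_apply]
      ring
    · intro a X Y
      simp only [Matrix.smul_apply, smul_eq_mul]
      ring
    · intro X Y Y'
      simp only [Matrix.add_apply]
      ring
    · intro a X Y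
      simp only [Matrix.smul_apply, smul_eq_mul]
      ring
    · intro X Y
      rw [LinearMap.mk₂_apply, Matrix.det_fin_two, Matrix.det_fin_two, Matrix.det_fin_two]
      simp only [Matrix.add_apply]
      ring

theorem detQ_apply (X : Matrix (Fin 2) (Fin 2) F) : detQ F X = X.det := rfl

theorem polar_detQ (X Y : Matrix (Fin 2) (Fin 2) F) :
    polar (detQ F) X Y = X 0 0 * Y 1 1 + X 1 1 * Y 0 0 - X 0 1 * Y 1 0 - X 1 0 * Y 0 1 := by
  unfold polar
  rw [detQ_apply, detQ_apply, detQ_apply, Matrix.det_fin_two, Matrix.det_fin_two, Matrix.det_fin_two]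
  simp only [Matrix.add_apply]
  ring

theorem nondeg_detQ : Nondeg (detQ F) := by
  intro X hX
  have h1 := hX (Matrix.single 0 0 1)
  have h2 := hX (Matrix.single 0 1 1)
  have h3 := hX (Matrix.single 1 0 1)
  have h4 := hX (Matrix.single 1 1 1)
  rw [polar_detQ] at h1 h2 h3 h4
  ext i j
  fin_cases i <;> fin_cases j <;> simp_all [Matrix.single]

/-- left multiplication -/
def lm : Matrix.SpecialLinearGroup (Fin 2) F →* (Matrix (Fin 2) (Fin 2) F ≃ₗ[F] Matrix (Fin 2) (Fin 2) F) where
  toFun s :=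
    { toFun := fun X => s.1 * X
      map_add' := fun X Y => mul_add _ _ _
      map_smul' := fun a X => Matrix.mul_smul _ _ _
      invFun := fun X => (s⁻¹).1 * X
      left_inv := fun X => by
        change (s⁻¹).1 * (s.1 * X) = X
        rw [← mul_assoc]
        have h1 : (s⁻¹).1 * s.1 = (1 : Matrix (Fin 2) (Fin 2) F) := by
          have := congrArg Subtype.val (inv_mul_cancel s)
          exact this
        rw [h1, one_mul]
      right_inv := fun X => by
        change s.1 * ((s⁻¹).1 * X) = X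
        rw [← mul_assoc]
        have h1 : s.1 * (s⁻¹).1 = (1 : Matrix (Fin 2) (Fin 2) F) := by
          have := congrArg Subtype.val (mul_inv_cancel s)
          exact this
        rw [h1, one_mul] }
  map_one' := by
    apply LinearEquiv.ext
    intro X
    exact one_mul X
  map_mul' s t := by
    apply LinearEquiv.ext
    intro X
    exact mul_assoc s.1 t.1 X

theorem lm_apply (s : Matrix.SpecialLinearGroup (Fin 2) F) (X : Matrix (Fin 2) (Fin 2) F) : lm s X = s.1 * X := rfl

theorem lm_mem (s : Matrix.SpecialLinearGroup (Fin 2) F) : lm s ∈ O (detQ F) := by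
  rw [mem_O]
  intro X
  rw [lm_apply, detQ_apply, detQ_apply, Matrix.det_mul, s.2, one_mul]

end Det

/-! ### the embedding -/

section Emb

variable {F : Type*} {V : Type*} [Field F] [AddCommGroup V] [Module F V] {Q : QuadraticForm F V}

/-- the projection -/
def prj (Q : QuadraticForm F V) (j : Matrix (Fin 2) (Fin 2) F →ₗ[F] V) (c : F) : V →ₗ[F] Matrix (Fin 2) (Fin 2) F where
  toFun v := c⁻¹ • !![polar Q (j (Matrix.single 1 1 1)) v, -polar Q (j (Matrix.single 1 0 1)) v;
    -polar Q (j (Matrix.single 0 1 1)) v, polar Q (j (Matrix.single 0 0 1)) v]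
  map_add' v w := by
    rw [← smul_add]
    congr 1
    ext i j
    fin_cases i <;> fin_cases j <;> simp [polar_add_right] <;> ring
  map_smul' a v := by
    rw [RingHom.id_apply, smul_comm a]
    congr 1
    ext i j
    fin_cases i <;> fin_cases j <;> simp [polar_smul_right]

theorem prj_apply (j : Matrix (Fin 2) (Fin 2) F →ₗ[F] V) (c : F) (v : V) :
    prj Q j c v = c⁻¹ • !![polar Q (j (Matrix.single 1 1 1)) v, -polar Q (j (Matrix.single 1 0 1)) v;
    -polar Q (j (Matrix.single 0 1 1)) v, polar Q (j (Matrix.single 0 0 1)) v] := rfl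

theorem polar_j_left (j : Matrix (Fin 2) (Fin 2) F →ₗ[F] V) (X : Matrix (Fin 2) (Fin 2) F) (v : V) :
    polar Q (j X) v = X 0 0 * polar Q (j (Matrix.single 0 0 1)) v + X 0 1 * polar Q (j (Matrix.single 0 1 1)) v +
      X 1 0 * polar Q (j (Matrix.single 1 0 1)) v + X 1 1 * polar Q (j (Matrix.single 1 1 1)) v := by
  have h1 : X = X 0 0 • Matrix.single 0 0 1 + X 0 1 • Matrix.single 0 1 1 + X 1 0 • Matrix.single 1 0 1 +
      X 1 1 • Matrix.single 1 1 1 := by
    ext a b
    fin_cases a <;> fin_cases b <;> simp [Matrix.single]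
  conv_lhs => rw [h1]
  simp only [map_add, map_smul, polar_add_left, polar_smul_left, smul_eq_mul]

/-- the similarity embedding -/
def mkEmb {j : Matrix (Fin 2) (Fin 2) F →ₗ[F] V} {c : F} (hc : c ≠ 0) (hj : ∀ X, Q (j X) = c * X.det) :
    GenOrth.Emb Q (detQ F) where
  j := j
  π := prj Q j c
  c := c
  hc := hc
  hQ := hj
  adj X v := by
    rw [polar_j_left, polar_detQ, prj_apply]
    simp only [Matrix.smul_apply, Matrix.of_apply, Matrix.cons_val', Matrix.cons_val_zero, Matrix.cons_val_one,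
      Matrix.cons_val_fin_one, smul_eq_mul]
    field_simp
    ring
  nd := nondeg_detQ

end Emb

/-! ### the theorem -/

section Main

variable {F : Type} [Field F] [Finite F] {V : Type*} [AddCommGroup V] [Module F V] [FiniteDimensional F V]
  {Q : QuadraticForm F V} {Γ : Subgroup (V ≃ₗ[F] V)}

theorem scalar_of_comm {φ : F ≃+* F} {A : Matrix (Fin 2) (Fin 2) F} (hA : A ≠ 0)
    (h : ∀ s : Matrix.SpecialLinearGroup (Fin 2) F, A * s.1.map φ = s.1 * A) :
    φ = RingEquiv.refl F ∧ ∃ a : F, A = a • (1 : Matrix (Fin 2) (Fin 2) F) := by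
  have h1 : ∀ a : F, A * (!![1, a; 0, 1] : Matrix (Fin 2) (Fin 2) F).map φ = !![1, a; 0, 1] * A := fun a =>
    h ⟨!![1, a; 0, 1], by rw [Matrix.det_fin_two_of]; ring⟩
  have h2 : A * (!![1, 0; 1, 1] : Matrix (Fin 2) (Fin 2) F).map φ = !![1, 0; 1, 1] * A :=
    h ⟨!![1, 0; 1, 1], by rw [Matrix.det_fin_two_of]; ring⟩
  have e1 : ∀ a : F, A 0 0 * φ a + A 0 1 = A 0 1 + a * A 1 1 ∧ A 1 0 * φ a + A 1 1 = A 1 1 ∧
      A 0 0 = A 0 0 + a * A 1 0 := by
    intro a
    have h3 := h1 a
    refine ⟨?_, ?_, ?_⟩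
    · have := congrFun (congrFun h3 0) 1
      simpa [Matrix.mul_apply, Fin.sum_univ_two] using this
    · have := congrFun (congrFun h3 1) 1
      simpa [Matrix.mul_apply, Fin.sum_univ_two] using this
    · have := congrFun (congrFun h3 0) 0
      simpa [Matrix.mul_apply, Fin.sum_univ_two] using this
  have e2 : A 0 0 + A 0 1 = A 0 0 := by
    have := congrFun (congrFun h2 0) 0
    simpa [Matrix.mul_apply, Fin.sum_univ_two] using this
  obtain ⟨f1, f2, f3⟩ := e1 1
  rw [map_one, mul_one, one_mul] at f1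
  rw [one_mul] at f3
  have g1 : A 1 0 = 0 := by simpa using f3
  have g2 : A 0 1 = 0 := by simpa using e2
  have g3 : A 0 0 = A 1 1 := by
    rw [add_comm] at f1
    exact add_left_cancel f1
  have hsc : A = A 1 1 • (1 : Matrix (Fin 2) (Fin 2) F) := by
    ext i j
    fin_cases i <;> fin_cases j <;> simp [g1, g2, g3]
  refine ⟨?_, A 1 1, hsc⟩
  have h0 : A 1 1 ≠ 0 := by
    intro h0
    apply hA
    rw [hsc, h0, zero_smul]
  ext a
  have h3 := (e1 a).1
  rw [g2, g3, add_zero, zero_add, mul_comm a] at h3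
  exact mul_left_cancel₀ h0 h3

/-- **the embedded `SL₂(F)`** -/
theorem emb_eq (h4 : 4 ≤ Nat.card F) (hS : NoS3 (Matrix.SpecialLinearGroup (Fin 2) F)) (hG : Good Q) (hΓ : Γ = E Q)
    [Finite ↥Γ] {x : MulAut (↥Γ ⧸ center ↥Γ)} (hR : RN x) {g : Equiv.Perm V} (hx : Comp x g) {φ : F ≃+* F}
    (hadd : ∀ u v, g (u + v) = g u + g v) (hform : ∀ u v, polar Q (g u) (g v) = φ (polar Q u v))
    {j : Matrix (Fin 2) (Fin 2) F →ₗ[F] V} {c : F} (hc : c ≠ 0) (hj : ∀ X, Q (j X) = c * X.det)
    {A B : Matrix (Fin 2) (Fin 2) F} (hA : IsUnit A) (hB : IsUnit B)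
    (hgj : ∀ X, g (j X) = j (A * X.map φ * B)) :
    φ = RingEquiv.refl F ∧ ∃ a : F, A = a • (1 : Matrix (Fin 2) (Fin 2) F) := by
  classical
  have : Fintype F := Fintype.ofFinite F
  have h3 : 3 < Fintype.card F := by rw [← Nat.card_eq_fintype_card]; omega
  have hperf := TwoFusion.SLTwoFacts.commutator_eq_top (F := F) h3
  have hqs : IsQuasisimple (Matrix.SpecialLinearGroup (Fin 2) F) :=
    ⟨Group.isPerfect_def.2 hperf, TwoFusion.SLTwoFacts.isSimpleGroup_psl h3⟩
  let e : GenOrth.Emb Q (detQ F) := mkEmb hc hj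
  have hej : ∀ X, e.j X = j X := fun _ => rfl
  obtain ⟨A', hA1, hA2⟩ : ∃ A', A * A' = 1 ∧ A' * A = 1 := by
    obtain ⟨u, rfl⟩ := hA
    exact ⟨_, u.mul_inv, u.inv_mul⟩
  obtain ⟨B', hB1, hB2⟩ : ∃ B', B * B' = 1 ∧ B' * B = 1 := by
    obtain ⟨u, rfl⟩ := hB
    exact ⟨_, u.mul_inv, u.inv_mul⟩
  -- the homomorphism
  let ψ0 : Matrix.SpecialLinearGroup (Fin 2) F →* (V ≃ₗ[F] V) := e.ext.comp lm
  have hψ0 : ∀ s v, ψ0 s v = v + e.j (s.1 * e.π v - e.π v) := fun _ _ => rfl
  have hψO : ∀ s, ψ0 s ∈ O Q := by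
    intro s
    rw [mem_O]
    intro v
    rw [hψ0, Q_add, e.hQ, polar_comm, e.adj]
    have h5 := (mem_O.1 (lm_mem s)) (e.π v)
    have h6 : detQ F (s.1 * e.π v) = detQ F (s.1 * e.π v - e.π v) + detQ F (e.π v) +
        polar (detQ F) (s.1 * e.π v - e.π v) (e.π v) := by
      rw [← Q_add, sub_add_cancel]
    rw [lm_apply, h6] at h5
    linear_combination e.c * h5
  have hψE : ∀ s, ψ0 s ∈ Γ := by
    intro s
    rw [hΓ]
    have h5 : (commutator (Matrix.SpecialLinearGroup (Fin 2) F)).map ψ0 ≤ E Q := by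
      rw [_root_.commutator_def, map_commutator]
      refine le_trans (commutator_mono ?_ ?_) hG.commutator_le_E <;>
      · rintro _ ⟨t, -, rfl⟩
        exact hψO t
    apply h5
    rw [hperf]
    exact ⟨s, mem_top s, rfl⟩
  let ψ1 : Matrix.SpecialLinearGroup (Fin 2) F →* ↥Γ := ψ0.codRestrict Γ hψE
  have hψ1 : ∀ s v, (ψ1 s).1 v = v + e.j (s.1 * e.π v - e.π v) := fun _ _ => rfl
  let ψ : Matrix.SpecialLinearGroup (Fin 2) F →* ↥Γ ⧸ center ↥Γ := (QuotientGroup.mk' (center ↥Γ)).comp ψ1
  -- a vector perpendicular to the copy of `M₂(F)`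
  obtain ⟨v0, hv0, hv00⟩ : ∃ v, e.π v = 0 ∧ v ≠ 0 := by
    by_contra hcon
    push Not at hcon
    have h5 : Function.Injective e.π := by
      rw [injective_iff_map_eq_zero]
      exact hcon
    have h6 := LinearMap.finrank_le_finrank_of_injective h5
    have h7 := hG.dim
    rw [Module.finrank_matrix, Fintype.card_fin, Module.finrank_self] at h6
    omega
  have hψinj : Function.Injective ψ := by
    rw [injective_iff_map_eq_one]
    intro s hs
    have h5 : ψ1 s ∈ center ↥Γ := (QuotientGroup.eq_one_iff (ψ1 s)).1 hs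
    obtain ⟨a, ha⟩ := center_scalar_orth hG hΓ h5
    have h6 := ha v0
    rw [hψ1, hv0, mul_zero, sub_zero, map_zero, add_zero] at h6
    have ha1 : a = 1 := by
      have h7 : (a - 1) • v0 = 0 := by rw [sub_smul, one_smul, ← h6, sub_self]
      rcases smul_eq_zero.1 h7 with h8 | h8
      · exact sub_eq_zero.1 h8
      · exact absurd h8 hv00
    have h7 := ha (e.j 1)
    rw [hψ1, e.π_j, ha1, one_smul, mul_one] at h7
    have h8 : e.j (s.1 - 1) = 0 := by
      have h9 : e.j 1 + e.j (s.1 - 1) - e.j 1 = 0 := by rw [h7, sub_self]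
      rwa [add_sub_cancel_left] at h9
    have h9 : s.1 - 1 = 0 := e.j_injective (by rw [h8, map_zero])
    apply Subtype.ext
    exact sub_eq_zero.1 h9
  let eM : Matrix.SpecialLinearGroup (Fin 2) F ≃* ψ.range := MonoidHom.ofInjective hψinj
  have hN : NoS3 ψ.range := hS.congr eM
  have hq : IsQuasisimple ψ.range := (CpQuot.Congr.isQuasisimple_iff eM).1 hqs
  -- the action of `g`
  have hπj : ∀ v, e.π (g v) = A * (e.π v).map φ * B := by
    intro v
    have h5 : v = e.j (e.π v) + (v - e.j (e.π v)) := by abel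
    have h6 : e.π (v - e.j (e.π v)) = 0 := by rw [map_sub, e.π_j, sub_self]
    have h7 : e.π (g (v - e.j (e.π v))) = 0 := by
      apply e.nd
      intro Y
      rw [polar_comm]
      have h8 : Y = A * (((A' * Y * B').map φ.symm).map φ) * B := by
        have h9 : ((A' * Y * B').map φ.symm).map φ = A' * Y * B' := by
          ext i k
          change φ (φ.symm ((A' * Y * B') i k)) = _
          exact φ.apply_symm_apply _
        rw [h9]
        calc Y = (A * A') * Y * (B' * B) := by rw [hA1, hB2, one_mul, mul_one]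
          _ = A * (A' * Y * B') * B := by simp only [mul_assoc]
      have h9 := e.adj Y (g (v - e.j (e.π v)))
      have h10 : e.j Y = g (e.j ((A' * Y * B').map φ.symm)) := by
        rw [hej, hej, hgj, ← h8]
      rw [h10, hform, e.adj, h6, polar_zero_right, mul_zero, map_zero] at h9
      exact (mul_eq_zero.1 h9.symm).resolve_left e.hc
    conv_lhs => rw [h5]
    rw [hadd, map_add, h7, add_zero, hej, hgj, ← hej, e.π_j]
  have hact : ∀ s : Matrix.SpecialLinearGroup (Fin 2) F, ∃ s' : Matrix.SpecialLinearGroup (Fin 2) F,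
      s'.1 = A * s.1.map φ * A' ∧ x (ψ s) = ψ s' := by
    intro s
    have hdet : (A * s.1.map φ * A').det = 1 := by
      have h5 : (s.1.map φ).det = 1 := by
        have h6 := s.2
        rw [Matrix.det_fin_two] at h6 ⊢
        simp only [Matrix.map_apply]
        rw [← map_mul, ← map_mul, ← map_sub, h6, map_one]
      rw [Matrix.det_mul, Matrix.det_mul, h5, mul_one, ← Matrix.det_mul, hA1, Matrix.det_one]
    refine ⟨⟨A * s.1.map φ * A', hdet⟩, rfl, ?_⟩
    apply hx.apply
    intro v
    rw [hψ1 s v, hadd]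
    refine (hψ1 _ (g v)).trans ?_
    rw [hπj]
    congr 1
    rw [hej, hej, hgj]
    congr 1
    have h5 : (s.1 * e.π v - e.π v).map φ = s.1.map φ * (e.π v).map φ - (e.π v).map φ := by
      ext i j
      simp [Matrix.mul_apply, Matrix.map_apply, Fin.sum_univ_two]
    rw [h5]
    calc A * s.1.map φ * A' * (A * (e.π v).map φ * B) - A * (e.π v).map φ * B
        = A * s.1.map φ * (A' * A) * (e.π v).map φ * B - A * (e.π v).map φ * B := by simp only [mul_assoc]
      _ = A * (s.1.map φ * (e.π v).map φ - (e.π v).map φ) * B := by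
          rw [hA2, mul_one]
          simp only [mul_sub, sub_mul, mul_assoc]
  have hinv : ∀ m ∈ ψ.range, x m ∈ ψ.range := by
    rintro _ ⟨s, rfl⟩
    obtain ⟨s', -, h5⟩ := hact s
    rw [h5]
    exact ⟨s', rfl⟩
  have hfinQ : Finite (↥Γ ⧸ center ↥Γ) := inferInstance
  apply scalar_of_comm
  · rintro rfl
    rw [zero_mul] at hA1
    exact zero_ne_one hA1
  · intro s
    obtain ⟨s', h5, h6⟩ := hact s
    have h7 := hR.eq_of_quasisimple hN hinv hq (m := ψ s) ⟨s, rfl⟩
    rw [h6] at h7
    have h8 := hψinj h7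
    rw [h8] at h5
    calc A * s.1.map φ = A * s.1.map φ * A' * A := by rw [mul_assoc (A * s.1.map φ), hA2, mul_one]
      _ = s.1 * A := by rw [← h5]

end Main

end Cfsg.Agent.H187.SN
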