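import Mathlib
import Cfsg.Agent.H187.SN.FourGrp
import Cfsg.Agent.BpCl.Rows

/-!
# Field automorphisms: a fixed copy of `M₂(F)` (helper187, S3831, task 4454)
-/

set_option autoImplicit false
set_option linter.unusedSectionVars false

namespace Cfsg.Agent.H187.SN

open Cfsg QuadraticMap
open Cfsg.Agent.BpCl (Semi SemiIso)
open Cfsg.Agent.LieClassical.OrthCore Cfsg.Agent.LieClassical.OrthTrans

variable {F : Type*} {V : Type*} [Field F] [AddCommGroup V] [Module F V] {Q : QuadraticForm F V}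

/-- the linear map `M₂(F) → V` with given images of the unit matrices -/
def jj (a b c d : V) : Matrix (Fin 2) (Fin 2) F →ₗ[F] V where
  toFun X := X 0 0 • a + X 0 1 • b + X 1 0 • c + X 1 1 • d
  map_add' X Y := by
    simp only [Matrix.add_apply, add_smul]
    abel
  map_smul' t X := by
    simp only [Matrix.smul_apply, smul_eq_mul, mul_smul, smul_add, RingHom.id_apply]

theorem jj_apply (a b c d : V) (X : Matrix (Fin 2) (Fin 2) F) :
    jj a b c d X = X 0 0 • a + X 0 1 • b + X 1 0 • c + X 1 1 • d := rfl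

theorem Q_jj {a b c d : V} {t : F} (ha : Q a = 0) (hb : Q b = 0) (hc : Q c = 0) (hd : Q d = 0)
    (hab : polar Q a b = 0) (hac : polar Q a c = 0) (had : polar Q a d = t) (hbc : polar Q b c = -t)
    (hbd : polar Q b d = 0) (hcd : polar Q c d = 0) (X : Matrix (Fin 2) (Fin 2) F) :
    Q (jj a b c d X) = t * X.det := by
  rw [jj_apply, Q_add, Q_add, Q_add]
  simp only [polar_add_left, polar_smul_left, polar_smul_right, QuadraticMap.map_smul, ha, hb, hc, hd, hab, hac, had,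
    hbc, hbd, hcd, smul_eq_mul, Matrix.det_fin_two]
  ring

/-- **a copy of `M₂(F)` fixed by a field automorphism** -/
theorem exists_frame_field [Finite F] [FiniteDimensional F V] (hQ : Nondeg Q) (hd : 5 ≤ Module.finrank F V)
    {g : Equiv.Perm V} {φ : F ≃+* F} (hg : SemiIso (fun u _ => Q u) φ 1 g) (hgp : g ^ 3 = 1)
    (hφ : ∀ a, φ^[3] a = a) (hφ1 : φ ≠ RingEquiv.refl F) :
    ∃ j : Matrix (Fin 2) (Fin 2) F →ₗ[F] V, (∀ X, Q (j X) = 1 * X.det) ∧ ∀ X, g (j X) = j (1 * X.map φ * 1) := by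
  have hspan := Cfsg.Agent.BpCl.span_U hg.toSemi Nat.prime_three hgp hφ hφ1
  obtain ⟨ι, _, b, b0, hb⟩ := Cfsg.Agent.BpCl.exists_basis hg.toSemi hspan
  have h1 : Module.finrank F V = Fintype.card ι := Module.finrank_eq_card_basis b
  have h2 : Module.finrank (Cfsg.Agent.BpCl.K0 φ) (Cfsg.Agent.BpCl.U hg.toSemi) = Fintype.card ι :=
    Module.finrank_eq_card_basis b0
  have hfd : Module.Finite (Cfsg.Agent.BpCl.K0 φ) (Cfsg.Agent.BpCl.U hg.toSemi) := Module.Finite.of_basis b0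
  have hnd : Nondeg (Cfsg.Agent.BpCl.quad0 hg) := by
    intro u hu
    refine Cfsg.Agent.BpCl.bilin0_nondeg (Cfsg.Agent.BpCl.semiIso_polar hg) hspan (fun u hu => hQ u hu) u fun v => ?_
    exact hu v
  have hG0 : Good (Cfsg.Agent.BpCl.quad0 hg) :=
    Cfsg.Agent.LieClassical.OrthFinite.good_of_finite hnd (by omega)
  obtain ⟨x, y, hxy⟩ := hG0.exists_hyp
  obtain ⟨z, w, hzw, hxz, hxw, hyz, hyw⟩ := hG0.exists_hyp2 hxy
  have hq : ∀ u : Cfsg.Agent.BpCl.U hg.toSemi, Cfsg.Agent.BpCl.quad0 hg u = 0 → Q (u : V) = 0 := fun u hu => by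
    rw [← Cfsg.Agent.BpCl.quad0_coe hg u, hu]
    rfl
  have hp : ∀ (u v : Cfsg.Agent.BpCl.U hg.toSemi), polar (Cfsg.Agent.BpCl.quad0 hg) u v = 0 →
      polar Q (u : V) v = 0 := fun u v hu => by
    rw [← Cfsg.Agent.BpCl.polar_quad0 hg u v, hu]
    rfl
  have hp1 : ∀ (u v : Cfsg.Agent.BpCl.U hg.toSemi), polar (Cfsg.Agent.BpCl.quad0 hg) u v = 1 →
      polar Q (u : V) v = 1 := fun u v hu => by
    rw [← Cfsg.Agent.BpCl.polar_quad0 hg u v, hu]
    rfl
  refine ⟨jj (x : V) (z : V) (-(w : V)) (y : V), ?_, ?_⟩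
  · refine Q_jj (hq x hxy.left) (hq z hzw.left) ?_ (hq y hxy.right) (hp _ _ hxz) ?_ (hp1 _ _ hxy.pair) ?_ ?_ ?_
    · rw [QuadraticMap.map_neg, hq w hzw.right]
    · rw [polar_neg_right, hp _ _ hxw, neg_zero]
    · rw [polar_neg_right, hp1 _ _ hzw.pair]
    · rw [polar_comm]; exact hp _ _ hyz
    · rw [polar_neg_left, polar_comm, hp _ _ hyw, neg_zero]
  · intro X
    have hx : g (x : V) = x := x.2
    have hy : g (y : V) = y := y.2
    have hz : g (z : V) = z := z.2
    have hw : g (w : V) = w := w.2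
    have hn : g (-(w : V)) = -(w : V) := by
      have := hg.smul (-1) (w : V)
      rwa [map_neg, map_one, neg_one_smul, neg_one_smul, hw] at this
    rw [one_mul, mul_one, jj_apply, jj_apply, hg.add, hg.add, hg.add, hg.smul, hg.smul, hg.smul, hg.smul, hx, hy, hz, hn]
    simp only [Matrix.map_apply]

end Cfsg.Agent.H187.SN
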